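import Groth.Agent.AVKLDimLib.Orth
import Groth.Agent.AVAmpleLib.Dense
import Groth.Agent.AVAmpleLib.KLPoints
import Groth.Agent.AVIndexLib.Square
import Groth.Agent.AVIndexLib.DualHom
import Groth.Agent.FibDimLib.FieldExt
import Groth.Agent.RosatiLib.Basic

/-!
The identity component of the locus of translations fixing a class, and the dimension of that locus.
-/

set_option autoImplicit false
set_option maxHeartbeats 400000
set_option backward.isDefEq.respectTransparency false
set_option linter.style.haveILetI false
set_option linter.unusedSectionVars false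

noncomputable section

universe u

open CategoryTheory CategoryTheory.Limits MonoidalCategory CartesianMonoidalCategory MonObj AlgebraicGeometry TopologicalSpace
open Groth.Agent CubeConsLib AVAmpleLib

namespace AVKLDimLib

variable {k : Type u} [Field k] [IsAlgClosed k]

/-- A proper reduced group has the dimension of its identity component. -/
theorem dim_eq_component (B : Over (Spec (CommRingCat.of k))) [GrpObj B] [IsProper B.hom] :
    topologicalKrullDim B.left = topologicalKrullDim (GrpField.Z0 B) := by
  refine le_antisymm ?_ (topologicalKrullDim_subspace_le B.left (GrpField.Z0 B))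
  haveI : JacobsonSpace B.left := LocallyOfFiniteType.jacobsonSpace B.hom
  haveI : NoetherianSpace B.left := by
    haveI : IsLocallyNoetherian B.left := LocallyOfFiniteType.isLocallyNoetherian B.hom
    haveI : CompactSpace B.left := QuasiCompact.compactSpace_of_compactSpace B.hom
    haveI : IsNoetherian B.left := {}
    infer_instance
  have hfin : (Set.range fun x : B.left => connectedComponent x).Finite :=
    (NoetherianSpace.finite_irreducibleComponents (α := B.left)).subset (by
      rintro _ ⟨x, rfl⟩
      obtain ⟨ξ, hξ, hξx⟩ := HomogDense.exists_isMax_specializes x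
      show connectedComponent x ∈ _
      rw [GrpField.connectedComponent_grp hξ hξx]
      exact HomogDense.closure_mem_irreducibleComponents hξ)
  have hopen : ∀ x : B.left, IsOpen (connectedComponent x) := fun x => by
    have e : connectedComponent x = (⋃ C ∈ (Set.range fun y : B.left => connectedComponent y) \ {connectedComponent x}, C)ᶜ := by
      ext y
      simp only [Set.mem_compl_iff, Set.mem_iUnion, not_exists]
      constructor
      · rintro hy C ⟨⟨z, rfl⟩, hne⟩ hyz
        exact hne ((connectedComponent_eq hyz).trans (connectedComponent_eq hy).symm)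
      · intro h
        by_contra hy
        refine h _ ⟨⟨y, rfl⟩, fun e => hy ?_⟩ mem_connectedComponent
        rw [← show connectedComponent y = connectedComponent x from e]
        exact mem_connectedComponent
    rw [e, isOpen_compl_iff]
    exact (hfin.subset Set.diff_subset).isClosed_biUnion fun C hC => by
      obtain ⟨⟨z, rfl⟩, -⟩ := hC
      exact isClosed_connectedComponent
  refine (FibDimLib.topologicalKrullDim_le_iSup (fun x : B.left => (⟨connectedComponent x, hopen x⟩ : Opens B.left))
    fun x => ⟨x, mem_connectedComponent⟩).trans (iSup_le fun x => ?_)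
  obtain ⟨y, hy, hyc⟩ := nonempty_inter_closedPoints (Z := connectedComponent x) ⟨x, mem_connectedComponent⟩
    isClosed_connectedComponent.isLocallyClosed
  obtain ⟨b, hb⟩ := AVAmpleLib.exists_pt_eq y hyc
  have hsub : (tL b⁻¹).left '' connectedComponent x ⊆ GrpField.Z0 B := by
    rw [← GrpField.connectedComponent_unit]
    have h1 : GrpField.unitPt B = (tL b⁻¹).left (pt b) := by
      rw [← pt_comp, point_tL, inv_mul_cancel, Hom.one_def, toUnit_unique (toUnit _) (𝟙 _), Category.id_comp]
      rfl
    refine (isPreconnected_connectedComponent.image _ (tL b⁻¹).left.continuous.continuousOn).subset_connectedComponent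
      ⟨pt b, ?_, h1.symm⟩
    rw [hb]
    exact hy
  haveI : IsIso (tL b⁻¹).left := inferInstanceAs (IsIso ((Over.forget _).map (tL b⁻¹)))
  let f : connectedComponent x → GrpField.Z0 B := fun z => ⟨(tL b⁻¹).left z, hsub ⟨z, z.2, rfl⟩⟩
  have hf : Topology.IsInducing f :=
    (Topology.IsInducing.subtypeVal (t := GrpField.Z0 B)).of_comp_iff.1
      ((tL b⁻¹).left.homeomorph.isEmbedding.isInducing.comp Topology.IsInducing.subtypeVal)
  exact hf.topologicalKrullDim_le

variable {A : Over (Spec (CommRingCat.of k))} [GrpObj A] [IsProper A.hom] [GeometricallyIntegral A.hom]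
  {L : A.left.Modules} (hL : PicF.IsInvertible L)

local notation "Pt" => 𝟙_ (Over (Spec (CommRingCat.of k))) ⟶ A

theorem fix_one : P hL (tR (1 : Pt)) = clA hL := by
  rw [tR_one, P_id]

theorem fix_iff_phiP (a : Pt) : P hL (tR a) = clA hL ↔ RosatiLib.phiP hL a = 0 := by
  rw [RosatiLib.phiP, sub_eq_zero, P_id]

theorem fix_mul {a b : Pt} (ha : P hL (tR a) = clA hL) (hb : P hL (tR b) = clA hL) :
    P hL (tR (a * b)) = clA hL := by
  rw [fix_iff_phiP, RosatiLib.phiP_mul, (fix_iff_phiP hL a).1 ha, (fix_iff_phiP hL b).1 hb, add_zero]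

theorem fix_inv {a : Pt} (ha : P hL (tR a) = clA hL) : P hL (tR a⁻¹) = clA hL := by
  rw [fix_iff_phiP]
  have h := RosatiLib.phiP_mul hL a a⁻¹
  rw [mul_inv_cancel, RosatiLib.phiP_one, (fix_iff_phiP hL a).1 ha, zero_add] at h
  exact h.symm

/-- The abelian subvariety inside the fixing locus, with finitely many translates covering it. -/
theorem exists_component {R : Set A.left} (hR : IsClosed R) (hmem : ∀ a : Pt, pt a ∈ R ↔ P hL (tR a) = clA hL) :
    ∃ (Z : Over (Spec (CommRingCat.of k))) (_ : GrpObj Z) (jZ : Z ⟶ A), IsProper Z.hom ∧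
      GeometricallyIntegral Z.hom ∧ IsMonHom jZ ∧ IsClosedImmersion jZ.left ∧
      lam hL (fst A Z) (snd A Z ≫ jZ) = 0 ∧ topologicalKrullDim R = topologicalKrullDim Z.left ∧
      ∃ F : Set Pt, F.Finite ∧ ∀ a : Pt, P hL (tR a) = clA hL →
        ∃ f ∈ F, ∃ z : 𝟙_ (Over (Spec (CommRingCat.of k))) ⟶ Z, a = f * (z ≫ jZ) := by
  haveI : IsCommMonObj A := CubeConsLib.isCommMonObj_field
  obtain ⟨B, _, i, hi, hicl, hred, hlft, hr⟩ := exists_reduced_subgroup {a : Pt | P hL (tR a) = clA hL}
    (fix_one hL) (fun a ha b hb => fix_mul hL ha hb) (fun a ha => fix_inv hL ha)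
  have hRr : Set.range i.left = R := by
    rw [hr]
    refine (congrArg (fun s => closure (pt '' s)) ?_).trans (closure_pt_eq hR)
    ext a
    exact (hmem a).symm
  haveI : IsProper B.hom := by rw [← Over.w i]; infer_instance
  haveI : Mono i := Over.mono_of_mono_left i
  obtain ⟨Z, _, j, hj, hjcl, _, hZp, hZg, hjr⟩ := exists_identity_component B
  haveI : IsIntegral Z.left := GeometricallyIntegral.isIntegral_of_subsingleton Z.hom
  haveI : IsClosedImmersion (j ≫ i).left := by rw [Over.comp_left]; infer_instance
  have hlam : lam hL (fst A Z) (snd A Z ≫ j ≫ i) = 0 := by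
    obtain ⟨K, z, hz, hzero, huniv⟩ := exists_KL_noeth hL
    haveI : IsLocallyNoetherian (𝟙_ (Over (Spec (CommRingCat.of k)))).left :=
      inferInstanceAs (IsLocallyNoetherian (Spec (CommRingCat.of k)))
    have hsub : Set.range (j ≫ i).left ⊆ Set.range z.left :=
      range_subset_of_points _ z.left.isClosedEmbedding.isClosed_range fun w => by
        obtain ⟨y, hy⟩ := huniv _ inferInstance (w ≫ j ≫ i) (mumfordZero_of_translate hL _ ((hmem _).1 (by
          rw [← hRr]
          exact ⟨(w ≫ j).left (IsLocalRing.closedPoint k), rfl⟩)))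
        rw [← hy]
        exact ⟨y.left (IsLocalRing.closedPoint k), rfl⟩
    obtain ⟨l, hl⟩ := exists_lift_of_reduced z.left (j ≫ i).left hsub
    let l' : Z ⟶ K := Over.homMk l (by rw [← Over.w z, ← Category.assoc, hl, Over.w])
    have e : l' ≫ z = j ≫ i := Over.OverMorphism.ext hl
    have h0 := congrArg (pullA (A ◁ l').left) ((AVIndexLib.mumfordZero_iff_lam hL z).1 hzero)
    rw [map_zero, pullA_lam, whiskerLeft_fst, ← Category.assoc (A ◁ l'), whiskerLeft_snd, Category.assoc, e] at h0
    exact h0
  haveI : NoetherianSpace B.left := by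
    haveI : IsLocallyNoetherian B.left := LocallyOfFiniteType.isLocallyNoetherian B.hom
    haveI : CompactSpace B.left := QuasiCompact.compactSpace_of_compactSpace B.hom
    haveI : IsNoetherian B.left := {}
    infer_instance
  let cc : Set (Set B.left) := Set.range fun x : B.left => connectedComponent x
  have hfin : cc.Finite := (NoetherianSpace.finite_irreducibleComponents (α := B.left)).subset (by
    rintro _ ⟨x, rfl⟩
    obtain ⟨ξ, hξ, hξx⟩ := HomogDense.exists_isMax_specializes x
    show connectedComponent x ∈ _
    rw [GrpField.connectedComponent_grp hξ hξx]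
    exact HomogDense.closure_mem_irreducibleComponents hξ)
  have hrep : ∀ C : cc, ∃ c₀ : 𝟙_ (Over (Spec (CommRingCat.of k))) ⟶ B, connectedComponent (pt c₀) = C.1 := by
    rintro ⟨_, x, rfl⟩
    haveI : JacobsonSpace B.left := LocallyOfFiniteType.jacobsonSpace B.hom
    obtain ⟨y, hy, hyc⟩ := nonempty_inter_closedPoints (Z := connectedComponent x) ⟨x, mem_connectedComponent⟩
      isClosed_connectedComponent.isLocallyClosed
    obtain ⟨b, hb⟩ := AVAmpleLib.exists_pt_eq y hyc
    exact ⟨b, by rw [hb]; exact (connectedComponent_eq hy).symm⟩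
  choose c₀ hc₀ using hrep
  haveI := hfin.to_subtype
  refine ⟨Z, inferInstance, j ≫ i, hZp, hZg, inferInstance, inferInstance, hlam, ?_,
    Set.range fun C : cc => c₀ C ≫ i, Set.finite_range _, fun a ha => ?_⟩
  · rw [← hRr, ← i.left.isClosedEmbedding.isEmbedding.toHomeomorph.isHomeomorph.topologicalKrullDim_eq,
      dim_eq_component B, ← hjr,
      ← j.left.isClosedEmbedding.isEmbedding.toHomeomorph.isHomeomorph.topologicalKrullDim_eq]
  · obtain ⟨c, hc⟩ := exists_lift_of_reduced (Z := Spec (CommRingCat.of k)) i.left a.left (by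
      refine (range_pt a).trans_subset ?_
      rw [Set.singleton_subset_iff, hRr]
      exact (hmem a).2 ha)
    let c' : 𝟙_ (Over (Spec (CommRingCat.of k))) ⟶ B := Over.homMk c (by
      rw [← Over.w i, ← Category.assoc, hc]
      exact Over.w a)
    have hc' : c' ≫ i = a := Over.OverMorphism.ext hc
    let C : cc := ⟨_, pt c', rfl⟩
    obtain ⟨d, hd⟩ := exists_lift_of_reduced (Z := Spec (CommRingCat.of k)) j.left ((c₀ C)⁻¹ * c').left (by
      refine (range_pt _).trans_subset ?_
      rw [Set.singleton_subset_iff, hjr]
      exact connectedComponent_pt _ _ (hc₀ C))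
    let d' : 𝟙_ (Over (Spec (CommRingCat.of k))) ⟶ Z := Over.homMk d (by
      rw [← Over.w j, ← Category.assoc, hd]
      exact Over.w _)
    have hd' : d' ≫ j = (c₀ C)⁻¹ * c' := Over.OverMorphism.ext hd
    refine ⟨c₀ C ≫ i, ⟨C, rfl⟩, d', ?_⟩
    rw [← Category.assoc d' j i, hd', ← MonObj.mul_comp, mul_inv_cancel_left, hc']

end AVKLDimLib

end
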