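import Groth.Agent.AVIndexLib.MumfordEuler

/-!
Euler characteristic of an external product of classes with concentrated cohomology, two factors.
-/

set_option autoImplicit false
set_option maxHeartbeats 400000
set_option maxRecDepth 8000
set_option backward.isDefEq.respectTransparency false
set_option linter.style.haveILetI false
set_option linter.unusedSectionVars false

noncomputable section

universe u

open CategoryTheory CategoryTheory.Limits MonoidalCategory CartesianMonoidalCategory MonObj AlgebraicGeometry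
open TopologicalSpace
open CubeConsLib AVVanishLib AVIndexLib

namespace AVKLDimLib

variable {k : Type u} [Field k] [IsAlgClosed k] {A B : Over (Spec (CommRingCat.of k))}
  [IsProper A.hom] [GeometricallyIntegral A.hom] [IsProper B.hom] [GeometricallyIntegral B.hom]

/-- Künneth for Euler characteristics, in the case of concentrated cohomology. -/
theorem euler_box {L : A.left.Modules} {M : B.left.Modules} (hL : PicF.IsInvertible L) (hM : PicF.IsInvertible M) {i : ℕ}
    (hi : Conc L i) {j : ℕ} (hj : Conc M j) :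
    @Curv2.euler k _ (A ⊗ B).left ⟨(A ⊗ B).hom⟩ (CohB1.tensorMod ((Scheme.Modules.pullback (snd A B).left).obj M)
        ((Scheme.Modules.pullback (fst A B).left).obj L)) =
      @Curv2.euler k _ A.left ⟨A.hom⟩ L * @Curv2.euler k _ B.left ⟨B.hom⟩ M := by
  letI : (A ⊗ B).left.Over (Spec (CommRingCat.of k)) := ⟨(A ⊗ B).hom⟩
  letI : B.left.Over (Spec (CommRingCat.of k)) := ⟨B.hom⟩
  haveI : IsProper (A.left ↘ Spec (CommRingCat.of k)) := ‹IsProper A.hom›
  haveI : IsProper (A ⊗ B).hom := inferInstanceAs (IsProper (pullback.fst A.hom B.hom ≫ A.hom))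
  haveI : IsProper ((A ⊗ B).left ↘ Spec (CommRingCat.of k)) := inferInstanceAs (IsProper (A ⊗ B).hom)
  haveI : LocallyOfFinitePresentation A.hom := LocallyOfFinitePresentation.iff_locallyOfFiniteType.2 inferInstance
  haveI : Flat A.hom := inferInstance
  haveI : IsLocallyNoetherian A.left := LocallyOfFiniteType.isLocallyNoetherian A.hom
  haveI : IsProper (B.left ↘ Spec (CommRingCat.of k)) := ‹IsProper B.hom›
  haveI : IsLocallyNoetherian B.left := LocallyOfFiniteType.isLocallyNoetherian B.hom
  let p := (fst A B).left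
  let q := (snd A B).left
  have hsq : IsPullback p q A.hom B.hom := IsPullback.of_hasPullback A.hom B.hom
  haveI : IsProper q := MorphismProperty.of_isPullback hsq ‹IsProper A.hom›
  haveI : HasInjectiveResolutions (A ⊗ B).left.Modules := inferInstance
  haveI : HasInjectiveResolutions A.left.Modules := inferInstance
  haveI : Coh.IsQCoh L := (CurvLib.isCoh_of_isInvertible hL).1
  let Lp := (Scheme.Modules.pullback p).obj L
  let G := CohB1.tensorMod ((Scheme.Modules.pullback q).obj M) Lp
  -- the direct images of the point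
  have hzero : ∀ b, b ≠ i → IsZero ((Coh.Rpush A.hom b).obj L) := fun b hb =>
    AVVanishLib.isZero_rpush_point A.hom hL b (hi.1 b hb)
  obtain ⟨r, ⟨e⟩⟩ : ∃ r, Nonempty ((Coh.Rpush A.hom i).obj L ≅ FlatMod.freeMod _ r) := by
    have hc : Coh.IsCoh ((Coh.Rpush A.hom i).obj L) :=
      Groth.Agent.S0036.result A.hom L (CurvLib.isCoh_of_isInvertible hL) i
    haveI := hc.1
    exact CohCmpLib.exists_freeMod_iso_of_field k _ hc.2
  let S := Spec (CommRingCat.of k)
  letI : S.Over (Spec (CommRingCat.of k)) := ⟨𝟙 S⟩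
  obtain ⟨Δ, -⟩ := CohCmpLib.exists_sectCmp A.hom
  have hr : (r : ℤ) = (Module.finrank k (Coh.HH A.left L i) : ℤ) := by
    have hl := exists_leray Δ i L (fun b hb => CohCmpLib.acyOn_of_isZero (hzero b hb.ne))
      (fun b hb => hzero b hb.ne') 0
    rw [Nat.zero_add] at hl
    obtain ⟨θ, hθ⟩ := hl
    let θ' : Coh.HH A.left L i ≃ₗ[k] Coh.HH S ((Coh.Rpush A.hom i).obj L) 0 :=
      { θ with
        map_smul' := fun c x => by
          refine Eq.trans (congrArg θ (?_ : _ = (A.hom.appTop (Coh.toGlobal (𝟙 S) c) • x : Coh.HH A.left L i))) (hθ _ x)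
          rfl }
    letI := CurvLib.secModule (k := k) (FlatMod.freeMod S r)
    obtain ⟨bb⟩ := RankLocusLib.nonempty_basis_freeMod S r
    let σ : k ≃+* Γ(S, ⊤) := RingEquiv.ofBijective (Coh.toGlobal (𝟙 S)) (by
      change Function.Bijective ((𝟙 S : S ⟶ S).appTop.hom ∘ (Scheme.ΓSpecIso (CommRingCat.of k)).inv.hom)
      rw [Scheme.Hom.id_appTop, CommRingCat.hom_id, RingHom.coe_id, Function.id_comp]
      exact ConcreteCategory.bijective_of_isIso (Scheme.ΓSpecIso (CommRingCat.of k)).inv)
    let θ'' : Γ(FlatMod.freeMod S r, ⊤) ≃ₗ[k] (Fin r → k) :=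
      { bb.equivFun.toAddEquiv.trans (AddEquiv.arrowCongr (Equiv.refl _) σ.symm.toAddEquiv) with
        map_smul' := fun c x => funext fun l => by
          change σ.symm (bb.equivFun ((σ c) • x) l) = c * σ.symm (bb.equivFun x l)
          rw [map_smul, Pi.smul_apply, smul_eq_mul, map_mul, RingEquiv.symm_apply_apply] }
    rw [((θ'.trans (CurvLib.hIso (k := k) e 0)).trans ((CurvLib.hhZeroEquiv (k := k) _).trans θ'')).finrank_eq,
      Module.finrank_fin_fun]
  -- the family
  have hR : ∀ b, ∃ s : ℕ, (b ≠ i → s = 0) ∧ (b = i → s = r) ∧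
      Nonempty ((Coh.Rpush q b).obj G ≅ CohB1.tensorMod M (FlatMod.freeMod B.left s)) := by
    intro b
    obtain ⟨e'⟩ := Groth.Agent.S0033.result A.hom B.hom p q hsq L b
    obtain ⟨e₂⟩ := Groth.Agent.S0927.result q Lp M
      (CurveVBLib.isFinLocFree_of_rank (CurvLib.locFree_of_isInvertible hM)) b
    by_cases hb : b = i
    · subst hb
      exact ⟨r, fun h => absurd rfl h, fun _ => rfl, ⟨e₂.symm ≪≫ HilbPolyLib.congrRight M (e'.symm ≪≫
        (Scheme.Modules.pullback B.hom).mapIso e ≪≫ KFlatLib.pullFreeIso B.hom r)⟩⟩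
    · have hz : IsZero ((Coh.Rpush q b).obj Lp) :=
        (Functor.map_isZero (Scheme.Modules.pullback B.hom) (hzero b hb)).of_iso e'.symm
      have hz' : IsZero ((Coh.Rpush q b).obj G) :=
        (Functor.map_isZero ((DCoh.tensorBi (X := B.left)).obj M) hz).of_iso e₂.symm
      exact ⟨0, fun _ => rfl, fun h => absurd h hb, ⟨hz'.iso (isZero_tensor_free_zero M)⟩⟩
  obtain ⟨s, -, hs, ⟨eG⟩⟩ := hR i
  obtain rfl : s = r := hs rfl
  have hzq : ∀ b, b ≠ i → IsZero ((Coh.Rpush q b).obj G) := fun b hb => by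
    obtain ⟨s', hs', -, ⟨e'⟩⟩ := hR b
    obtain rfl := hs' hb
    exact (isZero_tensor_free_zero M).of_iso e'
  obtain ⟨Δq, -⟩ := CohCmpLib.exists_sectCmp q
  have hvanM : ∀ n, n ≠ j → Subsingleton (Coh.HH B.left (CohB1.tensorMod M (FlatMod.freeMod B.left s)) n) :=
    fun n hn => (subsingleton_HH_tensor_free M n s).2 (Or.inr (hj.1 n hn))
  have hvanG : ∀ n, n ≠ j + i → Subsingleton (Coh.HH (A ⊗ B).left G n) := fun n hn =>
    subsingleton_HH_antidiagonal q G n fun a b hab => by
      by_cases hb : b = i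
      · subst hb
        exact SerreVanLib.subsingleton_HH_of_iso eG a (hvanM a (by omega))
      · exact subsingleton_HH_isZero (hzq b hb) a
  obtain ⟨θ, hθ⟩ := exists_leray Δq i G (fun b hb => CohCmpLib.acyOn_of_isZero (hzq b hb.ne))
    (fun b hb => hzq b hb.ne') j
  have hw : (A ⊗ B).hom = q ≫ B.hom := (Over.w (snd A B)).symm
  let θ' : Coh.HH (A ⊗ B).left G (j + i) ≃ₗ[k] Coh.HH B.left ((Coh.Rpush q i).obj G) j :=
    { θ with
      map_smul' := fun c x => by
        refine Eq.trans (congrArg θ (?_ : _ = (q.appTop (Coh.toGlobal B.hom c) • x :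
          Coh.HH (A ⊗ B).left G (j + i)))) (hθ _ x)
        change Coh.toGlobal (A ⊗ B).hom c • x = _
        rw [hw]
        rfl }
  have h1 := euler_tensor_free (k := k) (CurvLib.isCoh_of_isInvertible hM) s
  rw [euler_of_concentrated (k := k) hvanM] at h1
  rw [euler_of_concentrated (k := k) hvanG, (θ'.trans (CurvLib.hIso (k := k) eG j)).finrank_eq,
    pow_add, mul_comm ((-1 : ℤ) ^ j), _root_.mul_assoc, h1, euler_of_concentrated (k := k) hi.1, ← hr]
  ring


end AVKLDimLib

end
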