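import Groth.Agent.AVKLDimLib.Split
import Groth.Agent.AVIndexLib.DualBC
import Groth.Agent.HilbPolyLib.BaseField

/-!
The dimension of `K(L)` over any field, by passage to the algebraic closure.
-/

set_option autoImplicit false
set_option maxHeartbeats 400000
set_option maxRecDepth 8000
set_option backward.isDefEq.respectTransparency false
set_option linter.style.haveILetI false
set_option linter.unusedSectionVars false

noncomputable section

universe u

open CategoryTheory CategoryTheory.Limits MonoidalCategory CartesianMonoidalCategory MonObj AlgebraicGeometry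
open Groth.Agent CubeConsLib AVAmpleLib
open AVIndexLib (prBc dn toDn)

namespace AVKLDimLib

variable {k : Type u} [Field k] (Ω : Type u) [Field Ω] [Algebra k Ω]
  {X : Over (Spec (CommRingCat.of k))} [GrpObj X]

attribute [local instance] AVAmpleLib.grpBc

/-- The second projection of the extension, over the base field. -/
def q₂ (X : Over (Spec (CommRingCat.of k))) :
    dn (Spec.map (CommRingCat.ofHom (algebraMap k Ω))) ((bcF Ω).obj X) ⟶ SGA7.pt (K := k) Ω :=
  Over.homMk (show ((bcF Ω).obj X).left ⟶ Spec (CommRingCat.of Ω) from ((bcF Ω).obj X).hom) rfl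

/-- A translation of the extension, seen over the base field. -/
theorem tR_bcPt_fst (x : SGA7.pt (K := k) Ω ⟶ X) :
    (tR (bcPt Ω x)).left ≫ prBc (X := X) Ω =
      (fst X (SGA7.pt (K := k) Ω) * (snd X (SGA7.pt (K := k) Ω) ≫ x)).left := by
  let t := Spec.map (CommRingCat.ofHom (algebraMap k Ω))
  let X' := (bcF Ω).obj X
  let e : dn t X' ⟶ X ⊗ SGA7.pt (K := k) Ω :=
    lift (toDn t (𝟙 X')) (q₂ Ω X)
  have he : e.left = 𝟙 _ := by
    refine Limits.pullback.hom_ext ?_ ?_
    · refine (congrArg CommaMorphism.left (lift_fst (toDn t (𝟙 X')) (q₂ Ω X) :)).trans ?_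
      show 𝟙 _ ≫ _ = 𝟙 _ ≫ _
      rfl
    · exact (congrArg CommaMorphism.left (lift_snd (toDn t (𝟙 X')) (q₂ Ω X) :)).trans
        (Category.id_comp _).symm
  have hc : toDn t (toUnit X' ≫ bcPt Ω x) = e ≫ snd X (SGA7.pt (K := k) Ω) ≫ x := by
    refine Over.OverMorphism.ext ?_
    rw [AVIndexLib.toDn_left, Over.comp_left, Over.comp_left, Over.comp_left, he, Category.id_comp, Category.assoc,
      bcPt_left]
    erw [Limits.pullback.lift_fst]
    rfl
  have h1 : toDn t (tR (bcPt Ω x)) = e ≫ (fst X (SGA7.pt (K := k) Ω) * (snd X (SGA7.pt (K := k) Ω) ≫ x)) := by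
    rw [MonObj.comp_mul, ← hc, show e ≫ fst X _ = toDn t (𝟙 X') from lift_fst _ _]
    exact AVIndexLib.toDn_mul t _ _
  have h2 := congrArg Over.Hom.left h1
  refine (Eq.symm (AVIndexLib.toDn_left t _)).trans (h2.trans ?_)
  rw [Over.comp_left, he]
  exact Category.id_comp _

variable [IsProper X.hom] [GeometricallyIntegral X.hom] {L : X.left.Modules} (hL : PicF.IsInvertible L)

/-- Fixing a class over the extension is the vanishing of the Mumford class over the base. -/
theorem fix_bc_iff (x : SGA7.pt (K := k) Ω ⟶ X) :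
    P (AmpleDevLib.isInvertible_pb (prBc (X := X) Ω) hL) (tR (bcPt Ω x)) =
      clA (AmpleDevLib.isInvertible_pb (prBc (X := X) Ω) hL) ↔ MumfordZero hL x := by
  have hz : P hL (snd X (SGA7.pt (K := k) Ω) ≫ x) = 0 := by
    have h0 : P hL x = 0 := by
      haveI : Subsingleton (SGA7.pt (K := k) Ω).left := inferInstanceAs (Subsingleton (PrimeSpectrum Ω))
      haveI : Nonempty (SGA7.pt (K := k) Ω).left := inferInstanceAs (Nonempty (PrimeSpectrum Ω))
      rw [P, ← pullA_id (pullA x.left (clA hL))]
      rw [pullA_comp, Category.id_comp]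
      have h := CubeConsLib.pullA_eq_zero_of_point (𝟙 (SGA7.pt (K := k) Ω).left) x.left hL
      rwa [Category.id_comp] at h
    rw [← pullA_P, h0, map_zero]
  rw [MumfordZero, hz, add_zero, P, P, P, ← pullA_clA (prBc (X := X) Ω) hL, pullA_comp, tR_bcPt_fst]
  rfl

variable [IsAlgClosed Ω] {K : Over (Spec (CommRingCat.of k))} {i : K ⟶ X}

include hL in
theorem range_bc_iff (hK : ThetaGrp.IsKL X L i) (a : 𝟙_ (Over (Spec (CommRingCat.of Ω))) ⟶ (bcF Ω).obj X) :
    AVAmpleLib.pt a ∈ Set.range ((bcF Ω).map i).left ↔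
      P (AmpleDevLib.isInvertible_pb (prBc (X := X) Ω) hL) (tR a) =
        clA (AmpleDevLib.isInvertible_pb (prBc (X := X) Ω) hL) := by
  haveI := hK.closed
  haveI : IsProper ((bcF Ω).obj X).hom := inferInstanceAs (IsProper (pullback.snd X.hom _))
  haveI : IsClosedImmersion ((bcF Ω).map i).left := MorphismProperty.of_isPullback (P := @IsClosedImmersion) (isPullback_bc Ω i) inferInstance
  obtain ⟨x, rfl⟩ := (bcPt_bijective Ω).2 a
  rw [fix_bc_iff Ω hL x, ← mumfordTriv_iff hL x, hK.univ]
  constructor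
  · intro h
    obtain ⟨y, hy⟩ := exists_lift_of_reduced (Z := Spec (CommRingCat.of Ω)) ((bcF Ω).map i).left (bcPt Ω x).left
      ((range_pt _).trans_subset (Set.singleton_subset_iff.2 h))
    let y' : 𝟙_ (Over (Spec (CommRingCat.of Ω))) ⟶ (bcF Ω).obj K := Over.homMk y (by
      rw [← Over.w ((bcF Ω).map i), ← Category.assoc, hy]
      exact Over.w _)
    obtain ⟨z, hz⟩ := (bcPt_bijective Ω).2 y'
    refine ⟨z, (bcPt_bijective Ω).1 ?_⟩
    rw [bcPt_comp, hz]
    exact Over.OverMorphism.ext hy
  · rintro ⟨y, rfl⟩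
    rw [bcPt_comp]
    exact ⟨_, rfl⟩

include hL in
/-- The dimension of `K(L)` is the order of vanishing of the Hilbert polynomial at zero. -/
theorem dim_eq_rootMultiplicity (hK : ThetaGrp.IsKL X L i) {H : X.left.Modules} (hH : CohB1.IsAmple H)
    (Φ : Polynomial ℚ) (hΦ : ∀ n : ℕ, Φ.eval (n : ℚ) =
      (@Curv2.euler k _ X.left ⟨X.hom⟩ (CohB1.tensorMod L (CohB1.tensorPow H n)) : ℚ)) :
    topologicalKrullDim K.left = ((Φ.rootMultiplicity 0 : ℕ) : WithBot ℕ∞) := by
  let Ω' := AlgebraicClosure k
  haveI := hK.closed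
  haveI : LocallyOfFiniteType K.hom := by rw [← Over.w i]; infer_instance
  haveI : IsProper ((bcF Ω').obj X).hom := inferInstanceAs (IsProper (pullback.snd X.hom _))
  haveI : GeometricallyIntegral ((bcF Ω').obj X).hom := inferInstanceAs (GeometricallyIntegral (pullback.snd X.hom _))
  haveI : IsIntegral ((bcF Ω').obj X).left := GeometricallyIntegral.isIntegral_of_subsingleton ((bcF Ω').obj X).hom
  haveI : IsClosedImmersion ((bcF Ω').map i).left := MorphismProperty.of_isPullback (P := @IsClosedImmersion) (isPullback_bc Ω' i) inferInstance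
  haveI : IsAffineHom (prBc (X := X) Ω') := MorphismProperty.pullback_fst _ _ inferInstance
  have hH' := AmpleDevLib.isAmple_pb (prBc (X := X) Ω') hH.1 hH
  have key := rootMultiplicity_eq (AmpleDevLib.isInvertible_pb (prBc (X := X) Ω') hL) hH'
    ((bcF Ω').map i).left.isClosedEmbedding.isClosed_range (range_bc_iff Ω' hL hK) Φ (fun n => by
      have hN := HilbPolyLib.isInvertible_tensor hL (AmpleThLib.tensorPow_isInvertible hH.1 n)
      have e : clA (AmpleDevLib.isInvertible_pb (prBc (X := X) Ω') hN) =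
          clA (AmpleDevLib.isInvertible_pb (prBc (X := X) Ω') hL) + n • clA hH'.1 := by
        rw [← pullA_clA _ hN, clA_tensor hL (AmpleThLib.tensorPow_isInvertible hH.1 n), clA_pow hH.1, map_add, map_nsmul,
          pullA_clA, pullA_clA]
      rw [hΦ, ← IdxRootLib.euler_prBc (X := X) Ω' hN]
      exact congrArg Int.cast ((chi_clA _ (AmpleDevLib.isInvertible_pb (prBc (X := X) Ω') hN)).symm.trans
        (congrArg (chi _) e)))
  rw [← key, ← FibDimLib.topologicalKrullDim_pullback_field k Ω' K.hom]
  exact IsHomeomorph.topologicalKrullDim_eq _ ((bcF Ω').map i).left.isClosedEmbedding.isEmbedding.toHomeomorph.isHomeomorph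

end AVKLDimLib

end
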