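import Groth.Agent.AVAmpleLib.Complement
import Groth.Agent.AVAmpleLib.TorsClosure
import Groth.Agent.AVAmpleLib.ProdAV
import Groth.Agent.AVAmpleLib.BcDeg
import Groth.Agent.AVAmpleLib.TorsionStructure

/-!
The complement of an abelian subvariety orthogonal for a given ample module.
-/

set_option autoImplicit false
set_option linter.style.haveILetI false
set_option backward.isDefEq.respectTransparency false
set_option maxHeartbeats 800000
set_option synthInstance.maxHeartbeats 200000

noncomputable section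

universe u

open CategoryTheory CategoryTheory.Limits MonoidalCategory CartesianMonoidalCategory MonObj AlgebraicGeometry TopologicalSpace
open Groth.Agent CubeConsLib

namespace AVAmpleLib

variable {k : Type u} [Field k] {A B : Over (Spec (CommRingCat.of k))} [GrpObj A] [IsProper A.hom]
  [GeometricallyIntegral A.hom] [GrpObj B] [IsProper B.hom] [GeometricallyIntegral B.hom]

theorem imgPt_toUnit_comp {Ω : Type u} [Field Ω] [Algebra k Ω] {C : Over (Spec (CommRingCat.of k))}
    (z : 𝟙_ (Over (Spec (CommRingCat.of k))) ⟶ C) (j : C ⟶ A) :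
    imgPt ((toUnit (SGA7.pt (K := k) Ω) ≫ z) ≫ j) = pt (z ≫ j) := by
  rw [Category.assoc]
  show ((toUnit (SGA7.pt (K := k) Ω)) ≫ z ≫ j).left _ = (z ≫ j).left _
  rw [Over.comp_left, Scheme.Hom.comp_apply]
  exact congrArg _ (Subsingleton.elim (α := PrimeSpectrum k) _ _)

/-- Poincaré complete reducibility, with the complement orthogonal for a given ample module. -/
theorem exists_orth_complement [IsAlgClosed k] {L : A.left.Modules} (hL : CohB1.IsAmple L) (i : B ⟶ A) [IsMonHom i]
    [IsClosedImmersion i.left] :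
    ∃ (C : Over (Spec (CommRingCat.of k))) (_ : GrpObj C) (j : C ⟶ A), IsProper C.hom ∧ GeometricallyIntegral C.hom ∧
      IsMonHom j ∧ IsClosedImmersion j.left ∧ pairing hL.1 i j = 0 ∧
      Surjective ((fst B C ≫ i) * (snd B C ≫ j)).left ∧ IsFinite ((fst B C ≫ i) * (snd B C ≫ j)).left := by
  let Ω := AlgebraicClosure k
  obtain ⟨D, jD, hjD, hD⟩ := exists_orth hL.1 i
  haveI := hjD
  haveI hTn : IsLocallyNoetherian (SGA7.pt (K := k) Ω).left :=
    inferInstanceAs (IsLocallyNoetherian (Spec (CommRingCat.of Ω)))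
  have hmem : ∀ a : SGA7.pt (K := k) Ω ⟶ A, imgPt a ∈ Set.range jD.left ↔ pairing hL.1 i a = 0 := fun a => by
    rw [hD _ hTn a]
    exact ⟨exists_factor jD a, fun ⟨y, hy⟩ => hy ▸ ⟨_, rfl⟩⟩
  obtain ⟨C, _, j, hj, hjcl, hCp, hCg, hCD, F, hF, hFD⟩ :=
    exists_torsClosure (Set.range jD.left) jD.left.isClosedEmbedding.isClosed_range ((hmem 1).2 (pairing_one hL.1 i))
      (fun a b ha hb => (hmem _).2 (by rw [pairing_mul, (hmem a).1 ha, (hmem b).1 hb, add_zero]))
      (fun a ha => (hmem _).2 (by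
        have h := pairing_mul hL.1 i a a⁻¹
        rw [mul_inv_cancel, pairing_one, (hmem a).1 ha, zero_add] at h
        exact h.symm))
  haveI : IsCommMonObj A := CubeConsLib.isCommMonObj_field
  haveI : IsProper (B ⊗ C).hom := inferInstanceAs (IsProper (pullback.fst B.hom C.hom ≫ B.hom))
  haveI : GeometricallyIntegral (B ⊗ C).hom := CubeConsLib.geometricallyIntegral_prod B.hom C.hom
  haveI : IsCommMonObj (B ⊗ C) := CubeConsLib.isCommMonObj_field
  let s : B ⊗ C ⟶ A := (fst B C ≫ i) * (snd B C ≫ j)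
  haveI hs : IsMonHom s := by
    haveI : IsMonHom (fst B C ≫ i) := inferInstance
    haveI : IsMonHom (snd B C ≫ j) := inferInstance
    exact inferInstanceAs (IsMonHom (EndAV.Hom.toHom (EndAV.Hom.of (fst B C ≫ i) + EndAV.Hom.of (snd B C ≫ j))))
  haveI : Mono i := Over.mono_of_mono_left i
  haveI : Mono j := Over.mono_of_mono_left j
  have hkerfin : {x : SGA7.pt (K := k) Ω ⟶ B ⊗ C | x ≫ s = 1}.Finite := by
    have hBfin := finite_orth_sub hL.1 i hL Ω
    refine Set.Finite.of_finite_image (f := fun x => x ≫ fst B C) (hBfin.subset ?_) ?_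
    · rintro _ ⟨x, hx, rfl⟩
      show pairing hL.1 i ((x ≫ fst B C) ≫ i) = 0
      have hx' : (x ≫ fst B C ≫ i) * (x ≫ snd B C ≫ j) = 1 := by
        rw [← MonObj.comp_mul]
        exact hx
      have h0 : pairing hL.1 i ((x ≫ snd B C) ≫ j) = 0 := (hmem _).1 (hCD _)
      have h := pairing_mul hL.1 i (x ≫ fst B C ≫ i) (x ≫ snd B C ≫ j)
      rw [hx', pairing_one, ← Category.assoc x (snd B C), h0, add_zero] at h
      rw [Category.assoc]
      exact h.symm
    · intro x hx y hy hxy
      refine CartesianMonoidalCategory.hom_ext _ _ hxy ?_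
      rw [← cancel_mono j]
      have e1 : (x ≫ fst B C ≫ i) * (x ≫ snd B C ≫ j) = (y ≫ fst B C ≫ i) * (y ≫ snd B C ≫ j) := by
        rw [← MonObj.comp_mul, ← MonObj.comp_mul]
        exact hx.trans hy.symm
      rw [← Category.assoc x, ← Category.assoc y, show x ≫ fst B C = y ≫ fst B C from hxy] at e1
      exact (Category.assoc _ _ _).trans ((mul_left_cancel e1).trans (Category.assoc _ _ _).symm)
  -- over the algebraically closed field
  haveI hp : ∀ (Z : Over (Spec (CommRingCat.of k))) [IsProper Z.hom], IsProper ((bcF Ω).obj Z).hom := fun Z _ =>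
    inferInstanceAs (IsProper (pullback.snd Z.hom _))
  haveI hg' : ∀ (Z : Over (Spec (CommRingCat.of k))) [GeometricallyIntegral Z.hom],
      GeometricallyIntegral ((bcF Ω).obj Z).hom := fun Z _ =>
    inferInstanceAs (GeometricallyIntegral (pullback.snd Z.hom _))
  haveI : IsCommMonObj ((bcF Ω).obj A) := CubeConsLib.isCommMonObj_field
  haveI : IsCommMonObj ((bcF Ω).obj (B ⊗ C)) := CubeConsLib.isCommMonObj_field
  let s' := (bcF Ω).map s
  haveI : IsMonHom s' := inferInstanceAs (IsMonHom ((bcF Ω).map s))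
  haveI : IsFinite s'.left := by
    refine isFinite_of_finite_pts s' ((hkerfin.image (ptsMulEquiv Ω (B ⊗ C))).subset fun a ha => ?_)
    obtain ⟨x, rfl⟩ := (ptsMulEquiv Ω (B ⊗ C)).surjective a
    refine ⟨x, (ptsMulEquiv Ω A).injective ?_, rfl⟩
    rw [map_one]
    exact (bcPt_comp Ω x s).trans ha
  haveI hsfin : IsFinite s.left := (isFinite_bc_iff Ω s).1 inferInstance
  haveI : ∀ (Z : Over (Spec (CommRingCat.of k))) [GeometricallyIntegral Z.hom], IsIntegral ((bcF Ω).obj Z).left :=
    fun Z _ => GeometricallyIntegral.isIntegral_of_subsingleton ((bcF Ω).obj Z).hom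
  obtain ⟨g, hg⟩ := exists_dim ((bcF Ω).obj A)
  obtain ⟨b, hb⟩ := exists_dim ((bcF Ω).obj B)
  obtain ⟨c, hc⟩ := exists_dim ((bcF Ω).obj C)
  have hineq : g ≤ b + c := by
    obtain ⟨l, hl', hlk⟩ := exists_prime_ne_zero k
    haveI := hl'
    haveI := hF.to_subtype
    by_contra hlt
    let n := l ^ Nat.card F
    have hn0 : 0 < n := pow_pos (Fact.out : l.Prime).pos _
    have hn : (n : Ω) ≠ 0 := by
      intro h
      rw [← map_natCast (algebraMap k Ω), map_eq_zero, Nat.cast_pow] at h
      exact hlk (pow_eq_zero_iff'.1 h).1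
    let T := {x : SGA7.pt (K := k) Ω ⟶ A // x ^ n = 1}
    let TC := {x : SGA7.pt (K := k) Ω ⟶ C // x ^ n = 1}
    haveI : Finite T := Nat.finite_of_card_ne_zero (by rw [natCard_tors_pt Ω A hg n hn]; positivity)
    haveI : Finite TC := Nat.finite_of_card_ne_zero (by rw [natCard_tors_pt Ω C hc n hn]; positivity)
    obtain ⟨hfin, hR⟩ := index_orth_tors hL.1 i Ω hb n hn
    let R := Set.range fun x : T => pairing hL.1 i x.1
    haveI : Finite R := hfin
    choose f hfF cc hcc using fun x : {x : T // pairing hL.1 i x.1 = 0} => hFD x.1.1 ((hmem _).2 x.2)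
    have hpick : ∀ y : F, ∃ x₀ : T, ∀ x, f x = y.1 → f x = y.1 ∧ ∃ x₁ : {x : T // pairing hL.1 i x.1 = 0}, f x₁ = y.1 ∧ x₁.1 = x₀ := by
      intro y
      by_cases h : ∃ x, f x = y.1
      · obtain ⟨x₁, hx₁⟩ := h
        exact ⟨x₁.1, fun x hx => ⟨hx, x₁, hx₁, rfl⟩⟩
      · exact ⟨⟨1, one_pow _⟩, fun x hx => absurd ⟨x, hx⟩ h⟩
    choose x₀ hx₀ using hpick
    have hC' : ∀ x : {x : T // pairing hL.1 i x.1 = 0}, ∃ d : TC, x.1.1 = (x₀ ⟨f x, hfF x⟩).1 * (d.1 ≫ j) := by
      intro x
      obtain ⟨-, x₁, hx₁, hx₁'⟩ := hx₀ ⟨f x, hfF x⟩ x rfl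
      have e : (x₁.1.1)⁻¹ * x.1.1 = ((cc x₁)⁻¹ * cc x) ≫ j := by
        rw [MonObj.mul_comp, GrpObj.inv_comp, hcc x, hcc x₁, hx₁]
        group
      refine ⟨⟨(cc x₁)⁻¹ * cc x, ?_⟩, ?_⟩
      · rw [← cancel_mono j, MonObj.pow_comp, ← e, mul_pow, inv_pow, x₁.1.2, x.1.2, MonObj.one_comp, inv_one,
          _root_.one_mul]
      · rw [← e, ← hx₁', mul_inv_cancel_left]
    choose dd hdd using hC'
    have hker : Nat.card {x : T // pairing hL.1 i x.1 = 0} ≤ Nat.card F * n ^ (2 * c) := by
      rw [← natCard_tors_pt Ω C hc n hn, ← Nat.card_prod]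
      refine Nat.card_le_card_of_injective (fun x => ((⟨f x, hfF x⟩ : F), dd x)) fun x y hxy => ?_
      simp only [Prod.mk.injEq] at hxy
      apply Subtype.ext
      apply Subtype.ext
      rw [hdd x, hdd y, hxy.1, hxy.2]
    have htot : Nat.card T ≤ Nat.card R * Nat.card {x : T // pairing hL.1 i x.1 = 0} := by
      choose r hr using fun y : R => y.2
      rw [← Nat.card_prod]
      have hdiv : ∀ x : T, ∃ z : {x : T // pairing hL.1 i x.1 = 0},
          x.1 = (r ⟨_, x, rfl⟩).1 * z.1.1 := fun x => by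
        set x₁ := r ⟨_, x, rfl⟩ with hx₁def
        have h1 : pairing hL.1 i x₁.1 = pairing hL.1 i x.1 := hr ⟨_, x, rfl⟩
        refine ⟨⟨⟨x₁.1⁻¹ * x.1, by rw [mul_pow, inv_pow, x.2, x₁.2, inv_one, _root_.one_mul]⟩, ?_⟩,
          (mul_inv_cancel_left _ _).symm⟩
        have h2 := pairing_mul hL.1 i x₁.1 (x₁.1⁻¹ * x.1)
        rw [mul_inv_cancel_left, h1] at h2
        exact left_eq_add.1 h2
      choose z hz using hdiv
      refine Nat.card_le_card_of_injective (fun x => ((⟨_, x, rfl⟩ : R), z x)) fun x y hxy => ?_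
      simp only [Prod.mk.injEq] at hxy
      apply Subtype.ext
      rw [hz x, hz y, hxy.2]
      congr 2
      exact congrArg r hxy.1
    rw [natCard_tors_pt Ω A hg n hn] at htot
    have hbig : n ^ (2 * (b + c)) * n ^ 2 ≤ n ^ (2 * g) := by
      rw [← pow_add]
      exact Nat.pow_le_pow_right hn0 (by omega)
    have hsmall : n ^ (2 * g) ≤ n ^ (2 * (b + c)) * Nat.card F := by
      refine htot.trans ((Nat.mul_le_mul hR hker).trans_eq ?_)
      ring
    have hFn : Nat.card F < n := Nat.lt_pow_self (Fact.out : l.Prime).one_lt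
    have := Nat.le_of_mul_le_mul_left (hbig.trans hsmall) (pow_pos hn0 _)
    nlinarith
  haveI : Surjective s'.left := by
    refine surjective_of_finite_le s'.left ?_ hg
    have h1 : topologicalKrullDim ((bcF Ω).obj B ⊗ (bcF Ω).obj C).left = ((b + c : ℕ) : WithBot ℕ∞) := by
      rw [dim_tensor, hb, hc, Nat.cast_add]
    have h2 := IsHomeomorph.topologicalKrullDim_eq _
      (Scheme.homeoOfIso ((Over.forget _).mapIso (Functor.Monoidal.μIso (bcF Ω) B C))).isHomeomorph
    change topologicalKrullDim ((bcF Ω).obj B ⊗ (bcF Ω).obj C).left = topologicalKrullDim ((bcF Ω).obj (B ⊗ C)).left at h2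
    rw [← h2, h1]
    exact_mod_cast hineq
  haveI : Surjective s.left := by
    haveI := (surjective_flat_qc_bc (k := k) Ω).1
    haveI : Surjective (pullback.fst A.hom (Spec.map (CommRingCat.ofHom (algebraMap k Ω)))) :=
      MorphismProperty.pullback_fst _ _ inferInstance
    have hw := (isPullback_bc Ω s).w
    haveI : Surjective (s'.left ≫ pullback.fst A.hom (Spec.map (CommRingCat.ofHom (algebraMap k Ω)))) := inferInstance
    haveI : Surjective (pullback.fst (B ⊗ C).hom (Spec.map (CommRingCat.ofHom (algebraMap k Ω))) ≫ s.left) :=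
      hw.symm ▸ inferInstance
    exact Surjective.of_comp (pullback.fst (B ⊗ C).hom (Spec.map (CommRingCat.ofHom (algebraMap k Ω)))) s.left
  have horth : pairing hL.1 i j = 0 := by
    haveI : IsLocallyNoetherian C.left := LocallyOfFiniteType.isLocallyNoetherian C.hom
    haveI : IsIntegral C.left := GeometricallyIntegral.isIntegral_of_subsingleton C.hom
    refine (hD C inferInstance j).2 ?_
    obtain ⟨l, hl⟩ := exists_lift_of_reduced jD.left j.left
      (range_subset_of_points j jD.left.isClosedEmbedding.isClosed_range fun z =>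
        imgPt_toUnit_comp (Ω := Ω) z j ▸ hCD (toUnit _ ≫ z))
    exact ⟨Over.homMk l (by rw [← Over.w jD, ← Category.assoc, hl, Over.w j]), Over.OverMorphism.ext hl⟩
  exact ⟨C, inferInstance, j, hCp, hCg, hj, hjcl, horth, inferInstance, inferInstance⟩

end AVAmpleLib

end
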