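import Groth.Agent.AVKLDimLib.Component
import Groth.Agent.AVKLDimLib.Kunneth
import Groth.Agent.AVAmpleLib.IsogInv
import Groth.Agent.AVAmpleLib.DegDet
import Groth.Agent.AVIndexLib.TransIsog
import Groth.Agent.AVIndexLib.RelVanish
import Groth.Agent.AVIndexLib.Pullback
import Groth.Agent.RosatiLib.Deg
import Groth.Agent.IdxRootLib.Fam
import Groth.Agent.AmpleThLib.Ample

/-!
The Hilbert polynomial of a class splits along the isogeny from the fixing locus times its orthogonal complement.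
-/

set_option autoImplicit false
set_option maxHeartbeats 400000
set_option maxRecDepth 8000
set_option backward.isDefEq.respectTransparency false
set_option linter.style.haveILetI false
set_option linter.unusedSectionVars false

noncomputable section

universe u

open CategoryTheory CategoryTheory.Limits MonoidalCategory CartesianMonoidalCategory MonObj AlgebraicGeometry
open Groth.Agent CubeConsLib AVAmpleLib
open AVIndexLib (Conc)

namespace AVKLDimLib

variable {k : Type u} [Field k] [IsAlgClosed k]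

theorem finite_fibre {Y A : Over (Spec (CommRingCat.of k))} [IsProper Y.hom] [IsProper A.hom] (f : Y ⟶ A) [IsFinite f.left] (a : 𝟙_ (Over (Spec (CommRingCat.of k))) ⟶ A) :
    {y : 𝟙_ (Over (Spec (CommRingCat.of k))) ⟶ Y | y ≫ f = a}.Finite := by
  refine Set.Finite.of_finite_image (f := fun y => AVRigidLib.pt y) ((f.left.finite_preimage_singleton (AVRigidLib.pt a)).subset ?_)
    fun y _ y' _ h => AVRigidLib.ext_pt h
  rintro _ ⟨y, hy, rfl⟩
  show f.left (AVRigidLib.pt y) = AVRigidLib.pt a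
  rw [← show y ≫ f = a from hy]
  rfl

section Classes

variable {A W : Over (Spec (CommRingCat.of k))} [GrpObj A] [GrpObj W] {L H : A.left.Modules} (hL : PicF.IsInvertible L) (hH : PicF.IsInvertible H)

theorem lam_add_zsmul {M : A.left.Modules} (hM : PicF.IsInvertible M) {n : ℕ}
    (e : clA hM = clA hL + n • clA hH) {V : Over (Spec (CommRingCat.of k))} (a b : V ⟶ A) :
    lam hM a b = lam hL a b + n • lam hH a b := by
  have h : ∀ f : V ⟶ A, P hM f = P hL f + n • P hH f := fun f => by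
    rw [P, e, map_add, map_nsmul]
    rfl
  rw [lam, lam, lam, h, h, h, nsmul_sub, nsmul_sub]
  abel

end Classes

variable {A : Over (Spec (CommRingCat.of k))} [GrpObj A] [IsProper A.hom] [GeometricallyIntegral A.hom]

/-- The fixing sets of two classes with the same Mumford class agree. -/
theorem fix_iff_of_lam {L L' : A.left.Modules} (hL : PicF.IsInvertible L) (hL' : PicF.IsInvertible L')
    (e : lam hL (fst A A) (snd A A) = lam hL' (fst A A) (snd A A)) (a : 𝟙_ (Over (Spec (CommRingCat.of k))) ⟶ A) :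
    P hL (tR a) = clA hL ↔ P hL' (tR a) = clA hL' := by
  have h := congrArg (pullA (lift (𝟙 A) (toUnit A ≫ a)).left) e
  rw [pullA_lam, pullA_lam, lift_fst, lift_snd, AVIndexLib.lam_pt, AVIndexLib.lam_pt] at h
  rw [← sub_eq_zero, h, sub_eq_zero]

/-- Algebraically equivalent positive classes have the same Euler characteristic. -/
theorem chi_eq_of_lam {g : ℕ} (hg : topologicalKrullDim A.left = (g : ℕ)) {L L' : A.left.Modules}
    (hL : CohB1.IsAmple L) (hL' : CohB1.IsAmple L')
    (e : lam hL.1 (fst A A) (snd A A) = lam hL'.1 (fst A A) (snd A A)) :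
    haveI : IsIntegral A.left := GeometricallyIntegral.isIntegral_of_subsingleton A.hom
    chi A (clA hL.1) = chi A (clA hL'.1) := by
  haveI : IsIntegral A.left := GeometricallyIntegral.isIntegral_of_subsingleton A.hom
  have h1 := RosatiLib.chi_lam hg hL.1 (finite_translationFixing hL.1 hL)
  have h2 := RosatiLib.chi_lam hg hL'.1 (finite_translationFixing hL'.1 hL')
  rw [e, h2] at h1
  exact (pow_left_inj₀ (RosatiLib.chi_pos hg hL').le (RosatiLib.chi_pos hg hL).le two_ne_zero).1
    (mul_left_cancel₀ (pow_ne_zero g (by norm_num)) h1) |>.symm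

variable {Z C : Over (Spec (CommRingCat.of k))} [GrpObj Z] [IsProper Z.hom] [GeometricallyIntegral Z.hom] [GrpObj C] [IsProper C.hom]
  [GeometricallyIntegral C.hom] (jZ : Z ⟶ A) [IsMonHom jZ] [IsClosedImmersion jZ.left] (jC : C ⟶ A) [IsMonHom jC]
  [IsClosedImmersion jC.left]

/-- The sum of the two maps is a homomorphism. -/
theorem isMonHom_copair : IsMonHom ((fst Z C ≫ jZ) * (snd Z C ≫ jC)) := by
  haveI : IsCommMonObj A := CubeConsLib.isCommMonObj_field
  haveI : IsProper (Z ⊗ C).hom := inferInstanceAs (IsProper (pullback.fst Z.hom C.hom ≫ Z.hom))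
  haveI : GeometricallyIntegral (Z ⊗ C).hom := CubeConsLib.geometricallyIntegral_prod Z.hom C.hom
  haveI : IsCommMonObj (Z ⊗ C) := CubeConsLib.isCommMonObj_field
  haveI : IsMonHom (fst Z C ≫ jZ) := inferInstance
  haveI : IsMonHom (snd Z C ≫ jC) := inferInstance
  exact inferInstanceAs (IsMonHom (EndAV.Hom.toHom (EndAV.Hom.of (fst Z C ≫ jZ) + EndAV.Hom.of (snd Z C ≫ jC))))

/-- A translation killed by the pullback along a map with a left quasi-inverse fixes the class after a power. -/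
theorem fix_pow_of_pull {Y : Over (Spec (CommRingCat.of k))} {L : A.left.Modules} (hL : PicF.IsInvertible L)
    (f : Y ⟶ A) (ψ : A ⟶ Y) {n : ℕ} (hψ : ψ ≫ f = 𝟙 A ^ n) (a : 𝟙_ (Over (Spec (CommRingCat.of k))) ⟶ A)
    (h : lam hL f (toUnit Y ≫ a) = 0) : P hL (tR (a ^ n)) = clA hL := by
  have h4 := congrArg (pullA ψ.left) h
  rw [map_zero, pullA_lam, hψ, ← Category.assoc ψ (toUnit Y), toUnit_unique (ψ ≫ toUnit Y) (toUnit A), lam_pow_left,
    AVIndexLib.lam_pt, ← AVIndexLib.lam_pt_pow, sub_eq_zero] at h4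
  exact h4

/-- A translation of the complement fixing the restricted class dies on the product. -/
theorem lam_copair_const {L : A.left.Modules} (hL : PicF.IsInvertible L)
    (hlam : lam hL (fst A Z) (snd A Z ≫ jZ) = 0) (c : 𝟙_ (Over (Spec (CommRingCat.of k))) ⟶ C)
    (hc : P (AmpleDevLib.isInvertible_pb jC.left hL) (tR c) = clA (AmpleDevLib.isInvertible_pb jC.left hL)) :
    lam hL ((fst Z C ≫ jZ) * (snd Z C ≫ jC)) (toUnit (Z ⊗ C) ≫ c ≫ jC) = 0 := by
  have hcA : lam hL jC (toUnit C ≫ c ≫ jC) = 0 := by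
    have h := AVIndexLib.lam_pt (AmpleDevLib.isInvertible_pb jC.left hL) c
    rw [AVIndexLib.lam_pb jC hL, Category.id_comp, Category.assoc, hc, sub_self] at h
    exact h
  have h1 : lam hL (fst Z C ≫ jZ) (toUnit (Z ⊗ C) ≫ c ≫ jC) = 0 := by
    have h := congrArg (pullA (lift (toUnit (Z ⊗ C) ≫ c ≫ jC) (fst Z C)).left) hlam
    rw [map_zero, pullA_lam, lift_fst, lift_snd_assoc] at h
    rw [lam_comm]
    exact h
  have h2 : lam hL (snd Z C ≫ jC) (toUnit (Z ⊗ C) ≫ c ≫ jC) = 0 := by
    have h := congrArg (pullA (snd Z C).left) hcA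
    rw [map_zero, pullA_lam, ← Category.assoc (snd Z C) (toUnit C), toUnit_unique (snd Z C ≫ toUnit C) (toUnit _)] at h
    exact h
  rw [lam_mul_left, h1, h2, add_zero]

theorem finite_pow_preimage {G : Set (𝟙_ (Over (Spec (CommRingCat.of k))) ⟶ C)} (hG : G.Finite) {n : ℕ} (hn : 0 < n) :
    {c : 𝟙_ (Over (Spec (CommRingCat.of k))) ⟶ C | c ^ n ∈ G}.Finite := by
  haveI : IsFinite (𝟙 C ^ n).left := by
    rw [← zpow_natCast]
    exact AVAmpleLib.isFinite_zpow C (by exact_mod_cast hn.ne')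
  refine (hG.biUnion fun c _ => finite_fibre (𝟙 C ^ n) c).subset fun c hc => Set.mem_biUnion hc ?_
  show c ≫ 𝟙 C ^ n = c ^ n
  rw [MonObj.comp_pow, Category.comp_id]

/-- Only finitely many points of the complement fix the class. -/
theorem finite_fix_meet {L : A.left.Modules} (hL : PicF.IsInvertible L)
    [IsFinite ((fst Z C ≫ jZ) * (snd Z C ≫ jC)).left]
    {F : Set (𝟙_ (Over (Spec (CommRingCat.of k))) ⟶ A)} (hF : F.Finite)
    (hFa : ∀ a : 𝟙_ (Over (Spec (CommRingCat.of k))) ⟶ A, P hL (tR a) = clA hL →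
      ∃ f ∈ F, ∃ z : 𝟙_ (Over (Spec (CommRingCat.of k))) ⟶ Z, a = f * (z ≫ jZ)) :
    {c : 𝟙_ (Over (Spec (CommRingCat.of k))) ⟶ C | P hL (tR (c ≫ jC)) = clA hL}.Finite := by
  haveI : IsCommMonObj A := CubeConsLib.isCommMonObj_field
  haveI : IsProper (Z ⊗ C).hom := inferInstanceAs (IsProper (pullback.fst Z.hom C.hom ≫ Z.hom))
  refine ((hF.biUnion fun f _ => finite_fibre ((fst Z C ≫ jZ) * (snd Z C ≫ jC)) f).image
    fun y => y ≫ snd Z C).subset fun c hc => ?_
  obtain ⟨f, hf, z, hz⟩ := hFa _ hc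
  refine ⟨lift z⁻¹ c, Set.mem_biUnion hf ?_, lift_snd _ _⟩
  show lift z⁻¹ c ≫ ((fst Z C ≫ jZ) * (snd Z C ≫ jC)) = f
  rw [MonObj.comp_mul, ← Category.assoc, ← Category.assoc, lift_fst, lift_snd, hz, GrpObj.inv_comp, mul_comm f,
    inv_mul_cancel_left]

/-- The class on the complement is non-degenerate. -/
theorem finite_fix_complement {L : A.left.Modules} (hL : PicF.IsInvertible L)
    (hlam : lam hL (fst A Z) (snd A Z ≫ jZ) = 0)
    [IsFinite ((fst Z C ≫ jZ) * (snd Z C ≫ jC)).left] [Surjective ((fst Z C ≫ jZ) * (snd Z C ≫ jC)).left]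
    {F : Set (𝟙_ (Over (Spec (CommRingCat.of k))) ⟶ A)} (hF : F.Finite)
    (hFa : ∀ a : 𝟙_ (Over (Spec (CommRingCat.of k))) ⟶ A, P hL (tR a) = clA hL →
      ∃ f ∈ F, ∃ z : 𝟙_ (Over (Spec (CommRingCat.of k))) ⟶ Z, a = f * (z ≫ jZ)) :
    Set.Finite {c : 𝟙_ (Over (Spec (CommRingCat.of k))) ⟶ C | P (AmpleDevLib.isInvertible_pb jC.left hL) (tR c) =
      clA (AmpleDevLib.isInvertible_pb jC.left hL)} := by
  haveI : IsCommMonObj A := CubeConsLib.isCommMonObj_field
  haveI : IsProper (Z ⊗ C).hom := inferInstanceAs (IsProper (pullback.fst Z.hom C.hom ≫ Z.hom))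
  haveI : GeometricallyIntegral (Z ⊗ C).hom := CubeConsLib.geometricallyIntegral_prod Z.hom C.hom
  haveI : IsCommMonObj (Z ⊗ C) := CubeConsLib.isCommMonObj_field
  haveI := isMonHom_copair jZ jC
  obtain ⟨n, ψ, hn, -, -, hψ⟩ := exists_quasi_inverse ((fst Z C ≫ jZ) * (snd Z C ≫ jC))
  have hG := finite_fix_meet jZ jC hL hF hFa
  have hP := finite_pow_preimage (C := C) hG hn
  refine Set.Finite.subset hP ?_
  intro c hc
  simp only [Set.mem_setOf_eq] at hc ⊢
  have h := fix_pow_of_pull hL _ ψ hψ _ (lam_copair_const jZ jC hL hlam c hc)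
  rwa [← MonObj.pow_comp] at h

/-- The Euler characteristic splits along the isogeny. -/
theorem chi_split {M : A.left.Modules} (hM : PicF.IsInvertible M)
    (hsplit : lam hM (fst Z C ≫ jZ) (snd Z C ≫ jC) = 0)
    [IsFinite ((fst Z C ≫ jZ) * (snd Z C ≫ jC)).left] [Flat ((fst Z C ≫ jZ) * (snd Z C ≫ jC)).left] {d : ℕ}
    (hd : ∀ y, ((fst Z C ≫ jZ) * (snd Z C ≫ jC)).left.finrank y = d) (hMa : CohB1.IsAmple M) :
    haveI : IsIntegral A.left := GeometricallyIntegral.isIntegral_of_subsingleton A.hom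
    (d : ℤ) * chi A (clA hM) =
      chiMod Z ((Scheme.Modules.pullback jZ.left).obj M) * chiMod C ((Scheme.Modules.pullback jC.left).obj M) := by
  haveI : IsIntegral A.left := GeometricallyIntegral.isIntegral_of_subsingleton A.hom
  haveI : IsProper (Z ⊗ C).hom := inferInstanceAs (IsProper (pullback.fst Z.hom C.hom ≫ Z.hom))
  haveI : GeometricallyIntegral (Z ⊗ C).hom := CubeConsLib.geometricallyIntegral_prod Z.hom C.hom
  let μ' : Z ⊗ C ⟶ A := (fst Z C ≫ jZ) * (snd Z C ≫ jC)
  rw [chi_clA]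
  refine (AVRRLib.euler_pullback μ' d hd (CurvLib.isCoh_of_isInvertible hM)).symm.trans ?_
  have hMZ : CohB1.IsAmple ((Scheme.Modules.pullback jZ.left).obj M) := by
    haveI : CompactSpace Z.left := QuasiCompact.compactSpace_of_compactSpace Z.hom
    exact Groth.Agent.S9815.result jZ.left jZ.left.isEmbedding M hMa
  have hMC : CohB1.IsAmple ((Scheme.Modules.pullback jC.left).obj M) := by
    haveI : CompactSpace C.left := QuasiCompact.compactSpace_of_compactSpace C.hom
    exact Groth.Agent.S9815.result jC.left jC.left.isEmbedding M hMa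
  have hconc : ∀ (W : Over (Spec (CommRingCat.of k))) [GrpObj W] [IsProper W.hom] [GeometricallyIntegral W.hom] (N : W.left.Modules),
      CohB1.IsAmple N → Conc N 0 := fun W _ _ _ N hN => by
    refine ⟨fun n hn => AVIndexLib.subsingleton_HH_of_isAmple hN (Nat.pos_of_ne_zero hn), fun hs => ?_⟩
    obtain ⟨g, hg⟩ := AVAmpleLib.exists_dim W
    haveI : IsIntegral W.left := GeometricallyIntegral.isIntegral_of_subsingleton W.hom
    obtain ⟨i, j, -, hi, -, -, -⟩ := AVIndexLib.exists_index hN.1 hg (finite_translationFixing hN.1 hN)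
      (CubeConsLib.clA_dual hN.1)
    rcases Nat.eq_zero_or_pos i with rfl | h
    · exact hi hs
    · exact hi (AVIndexLib.subsingleton_HH_of_isAmple hN h)
  refine Eq.trans ?_ (euler_box (A := Z) (B := C) hMZ.1 hMC.1 (hconc Z _ hMZ) (hconc C _ hMC))
  letI : (Z ⊗ C).left.Over (Spec (CommRingCat.of k)) := ⟨(Z ⊗ C).hom⟩
  refine CurvLib.euler_congr (k := k) ((clA_eq_iff (AmpleDevLib.isInvertible_pb μ'.left hM)
    (HilbPolyLib.isInvertible_tensor (AmpleDevLib.isInvertible_pb _ hMC.1) (AmpleDevLib.isInvertible_pb _ hMZ.1))).1 ?_).some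
  rw [clA_tensor (AmpleDevLib.isInvertible_pb _ hMC.1) (AmpleDevLib.isInvertible_pb _ hMZ.1), ← pullA_clA _ hMC.1,
    ← pullA_clA _ hMZ.1, ← pullA_clA _ hM, ← pullA_clA jC.left hM, ← pullA_clA jZ.left hM, pullA_comp, pullA_comp,
    ← Over.comp_left, ← Over.comp_left]
  have h := hsplit
  rw [lam, sub_sub, sub_eq_zero] at h
  rw [add_comm]
  exact h

open Polynomial in
/-- The Euler characteristic along a pencil is polynomial. -/
theorem exists_linePoly {c : ℕ} (hc : topologicalKrullDim C.left = (c : ℕ)) {L H : C.left.Modules}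
    (hL : PicF.IsInvertible L) (hH : PicF.IsInvertible H) :
    haveI : IsIntegral C.left := GeometricallyIntegral.isIntegral_of_subsingleton C.hom
    ∃ P₂ : ℚ[X], ∀ m : ℕ, (chi C (clA hL + m • clA hH) : ℚ) = P₂.eval (m : ℚ) := by
  haveI : IsIntegral C.left := GeometricallyIntegral.isIntegral_of_subsingleton C.hom
  obtain ⟨Q, -, hQ⟩ := exists_natPoly hc (x := fun _ : Fin 1 => clA hH) (fun _ => ⟨_, hH, rfl⟩)
    (c := clA hL) ⟨_, hL, rfl⟩
  refine ⟨MvPolynomial.aeval (fun _ : Fin 1 => (X : ℚ[X])) Q, fun m => ?_⟩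
  have h := hQ fun _ => m
  rw [Fin.sum_univ_one] at h
  rw [h, ← Polynomial.coe_evalRingHom]
  show _ = Polynomial.evalRingHom (m : ℚ) (MvPolynomial.aeval _ Q)
  rw [MvPolynomial.aeval_def, MvPolynomial.eval₂_comp_left,
    show (Polynomial.evalRingHom (m : ℚ)).comp (algebraMap ℚ ℚ[X]) = RingHom.id ℚ from
      RingHom.ext fun q => by simp]
  simp [Function.comp_def, MvPolynomial.eval₂_id]

open Polynomial in
/-- Order of vanishing read off from a factorisation. -/
theorem rootMultiplicity_of_key {Φ P₂ : ℚ[X]} {a b : ℚ} (ha : a ≠ 0) (hb : b ≠ 0) {d : ℕ} (hP : P₂.eval 0 ≠ 0)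
    (key : Polynomial.C a * Φ = Polynomial.C b * X ^ d * P₂) : Φ.rootMultiplicity 0 = d := by
  have hΦ : Φ = (Polynomial.C (a⁻¹ * b) * P₂) * (X - Polynomial.C 0) ^ d := by
    rw [map_zero, sub_zero]
    calc Φ = Polynomial.C a⁻¹ * (Polynomial.C a * Φ) := by rw [← _root_.mul_assoc, ← map_mul, inv_mul_cancel₀ ha, map_one, _root_.one_mul]
      _ = _ := by rw [key, map_mul]; ring
  have hroot : ¬ (Polynomial.C (a⁻¹ * b) * P₂).IsRoot 0 := by
    rw [IsRoot, eval_mul, eval_C]
    exact mul_ne_zero (mul_ne_zero (inv_ne_zero ha) hb) hP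
  rw [hΦ, rootMultiplicity_mul_X_sub_C_pow (fun h => hroot (by rw [h]; exact eval_zero)),
    rootMultiplicity_eq_zero hroot, zero_add]

/-- Euler characteristic of a member of the pencil on the fixed part. -/
theorem chi_fixed_part {d : ℕ} (hd : topologicalKrullDim Z.left = (d : ℕ)) {L H M : A.left.Modules}
    (hL : PicF.IsInvertible L) (hH : CohB1.IsAmple H) (hM : CohB1.IsAmple M) {n : ℕ} (hn : 0 < n)
    (hMc : clA hM.1 = clA hL + n • clA hH.1) (hLZ : lam hL (fst Z Z ≫ jZ) (snd Z Z ≫ jZ) = 0) :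
    haveI : IsIntegral Z.left := GeometricallyIntegral.isIntegral_of_subsingleton Z.hom
    (chiMod Z ((Scheme.Modules.pullback jZ.left).obj M) : ℚ) =
      (n : ℚ) ^ d * (chi Z (clA (AmpleDevLib.isInvertible_pb jZ.left hH.1)) : ℚ) := by
  haveI : IsIntegral Z.left := GeometricallyIntegral.isIntegral_of_subsingleton Z.hom
  haveI : CompactSpace Z.left := QuasiCompact.compactSpace_of_compactSpace Z.hom
  haveI : CompactSpace A.left := QuasiCompact.compactSpace_of_compactSpace A.hom
  have hMZ := Groth.Agent.S9815.result jZ.left jZ.left.isEmbedding M hM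
  have hN := (AmpleThLib.isAmple_tensorPow_iff hH.1 hn).1 hH
  have hNZ := Groth.Agent.S9815.result jZ.left jZ.left.isEmbedding _ hN
  have e := chi_eq_of_lam hd hMZ hNZ (by
    rw [AVIndexLib.lam_pb jZ hM.1, AVIndexLib.lam_pb jZ hN.1, lam_add_zsmul hL hH.1 hM.1 hMc, hLZ, zero_add, lam, lam]
    simp only [P, clA_pow hH.1, map_nsmul, nsmul_sub])
  rw [← chi_clA Z hMZ.1, e, ← pullA_clA jZ.left hN.1, show clA hN.1 = _ from clA_pow hH.1 _, map_nsmul,
    ← natCast_zsmul, pullA_clA, AVRRLib.chi_zsmul hd, Int.cast_natCast]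

open Polynomial in
/-- The dimension of the fixing locus is the order of vanishing of the Hilbert polynomial at zero. -/
theorem rootMultiplicity_eq {L H : A.left.Modules} (hL : PicF.IsInvertible L) (hH : CohB1.IsAmple H)
    {R : Set A.left} (hR : IsClosed R) (hmem : ∀ a : 𝟙_ (Over (Spec (CommRingCat.of k))) ⟶ A, pt a ∈ R ↔ P hL (tR a) = clA hL)
    (Φ : ℚ[X]) (hΦ : haveI : IsIntegral A.left := GeometricallyIntegral.isIntegral_of_subsingleton A.hom
      ∀ n : ℕ, Φ.eval (n : ℚ) = (chi A (clA hL + n • clA hH.1) : ℚ)) :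
    topologicalKrullDim R = ((Φ.rootMultiplicity 0 : ℕ) : WithBot ℕ∞) := by
  haveI : IsIntegral A.left := GeometricallyIntegral.isIntegral_of_subsingleton A.hom
  haveI : IsCommMonObj A := CubeConsLib.isCommMonObj_field
  obtain ⟨Z, _, jZ, hZp, hZg, hjZ, hjZc, hlam, hdim, F, hF, hFa⟩ := exists_component hL hR hmem
  obtain ⟨C, _, jC, hCp, hCg, hjC, hjCc, horth, hsur, hfin⟩ := AVAmpleLib.exists_orth_complement hH jZ
  haveI : IsProper (Z ⊗ C).hom := inferInstanceAs (IsProper (pullback.fst Z.hom C.hom ≫ Z.hom))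
  haveI : GeometricallyIntegral (Z ⊗ C).hom := CubeConsLib.geometricallyIntegral_prod Z.hom C.hom
  haveI : IsIntegral Z.left := GeometricallyIntegral.isIntegral_of_subsingleton Z.hom
  haveI : IsIntegral C.left := GeometricallyIntegral.isIntegral_of_subsingleton C.hom
  obtain ⟨d, hd⟩ := AVAmpleLib.exists_dim Z
  obtain ⟨c, hc⟩ := AVAmpleLib.exists_dim C
  let μ' : Z ⊗ C ⟶ A := (fst Z C ≫ jZ) * (snd Z C ≫ jC)
  haveI hmon : IsMonHom μ' := isMonHom_copair jZ jC
  haveI : IsFinite μ'.left := hfin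
  haveI : Surjective μ'.left := hsur
  haveI : LocallyOfFinitePresentation (Z ⊗ C).hom := LocallyOfFinitePresentation.iff_locallyOfFiniteType.2 inferInstance
  haveI : IsLocallyNoetherian A.left := LocallyOfFiniteType.isLocallyNoetherian A.hom
  haveI := smooth_hom A
  haveI hfl : Flat μ'.left := AbSchLib.flat_of_surjective μ'
  let deg := μ'.left.finrank (genericPoint A.left)
  have hdeg : ∀ y, μ'.left.finrank y = deg := fun y => finrank_const μ' y _
  have hdeg0 : 0 < deg := by
    haveI : LocallyOfFinitePresentation μ'.left := LocallyOfFinitePresentation.iff_locallyOfFiniteType.2 inferInstance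
    obtain ⟨x, hx⟩ := μ'.left.surjective (genericPoint A.left)
    have := Scheme.Hom.one_le_finrank_map μ'.left x
    rw [hx] at this
    exact this
  have hsplitL : lam hL (fst Z C ≫ jZ) (snd Z C ≫ jC) = 0 := by
    have h := congrArg (pullA (lift (snd Z C ≫ jC) (fst Z C)).left) hlam
    rw [map_zero, pullA_lam, lift_fst, lift_snd_assoc] at h
    rw [lam_comm]
    exact h
  have hsplitH : lam hH.1 (fst Z C ≫ jZ) (snd Z C ≫ jC) = 0 := horth
  have hLZ : lam hL (fst Z Z ≫ jZ) (snd Z Z ≫ jZ) = 0 := by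
    have h := congrArg (pullA (lift (fst Z Z ≫ jZ) (snd Z Z)).left) hlam
    rw [map_zero, pullA_lam, lift_fst, lift_snd_assoc] at h
    exact h
  -- the polynomial on the complement
  let LC := AmpleDevLib.isInvertible_pb jC.left hL
  let HC := AmpleDevLib.isInvertible_pb jC.left hH.1
  obtain ⟨P₂, hP₂⟩ := exists_linePoly hc LC HC
  have hP0 : P₂.eval 0 ≠ 0 := by
    have h0 := hP₂ 0
    rw [zero_nsmul, add_zero, Nat.cast_zero, chi_clA] at h0
    rw [← h0]
    obtain ⟨i, j, -, hi, -, hvan, -⟩ := AVIndexLib.exists_index LC hc (finite_fix_complement jZ jC hL hlam hF hFa)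
      (CubeConsLib.clA_dual LC)
    exact Int.cast_ne_zero.2 (AVIndexLib.euler_ne_zero LC hi hvan)
  -- ample members of the pencil
  have hinf : ∀ m : ℕ, ∃ n, m ≤ n ∧ 0 < n ∧ ∃ (M : A.left.Modules) (hM : CohB1.IsAmple M),
      clA hM.1 = clA hL + n • clA hH.1 := fun m => by
    have hP := AmpleThLib.tensorPow_isInvertible hH.1 (m + 1)
    obtain ⟨e, M, hM, hMc⟩ := IdxRootLib.exists_ample_twist (HilbPolyLib.isInvertible_tensor hL hP) hH
    refine ⟨m + 1 + e, by omega, by omega, M, hM, ?_⟩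
    rw [hMc, clA_tensor hL hP, clA_pow, add_nsmul (clA hH.1) (m + 1) e, add_assoc]
  let χZ : ℚ := (chi Z (clA (AmpleDevLib.isInvertible_pb jZ.left hH.1)) : ℚ)
  have hχZ : χZ ≠ 0 := by
    haveI : CompactSpace Z.left := QuasiCompact.compactSpace_of_compactSpace Z.hom
    have hHZ := Groth.Agent.S9815.result jZ.left jZ.left.isEmbedding H hH
    exact Int.cast_ne_zero.2 (RosatiLib.chi_pos hd hHZ).ne'
  have key : Polynomial.C (deg : ℚ) * Φ = Polynomial.C χZ * X ^ d * P₂ := by
    refine Polynomial.eq_of_infinite_eval_eq _ _ (Set.Infinite.mono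
      (s := (fun n : ℕ => (n : ℚ)) '' {n : ℕ | 0 < n ∧ ∃ (M : A.left.Modules) (hM : CohB1.IsAmple M),
        clA hM.1 = clA hL + n • clA hH.1}) ?_ ?_)
    · rintro _ ⟨n, ⟨hn, M, hM, hMc⟩, rfl⟩
      show _ = _
      have hlamM : ∀ {V : Over (Spec (CommRingCat.of k))} (a b : V ⟶ A), lam hM.1 a b = lam hL a b + n • lam hH.1 a b :=
        fun a b => lam_add_zsmul hL hH.1 hM.1 hMc a b
      have hs := chi_split jZ jC hM.1 (by rw [hlamM, hsplitL, hsplitH, nsmul_zero, add_zero]) hdeg hM
      have eC : chiMod C ((Scheme.Modules.pullback jC.left).obj M) = chi C (clA LC + n • clA HC) := by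
        rw [← chi_clA C (AmpleDevLib.isInvertible_pb jC.left hM.1), ← pullA_clA jC.left hM.1, hMc, map_add, map_nsmul, pullA_clA,
          pullA_clA]
      have eZ := chi_fixed_part jZ hd hL hH hM hn hMc hLZ
      have hs' := congrArg (fun z : ℤ => (z : ℚ)) hs
      simp only [Int.cast_mul, Int.cast_natCast] at hs'
      rw [eC, hP₂, eZ, hMc, ← hΦ] at hs'
      simp only [Polynomial.eval_mul, Polynomial.eval_C, Polynomial.eval_pow, Polynomial.eval_X]
      rw [hs']
      ring
    · refine Set.Infinite.image Nat.cast_injective.injOn (Set.infinite_of_forall_exists_gt fun m => ?_)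
      obtain ⟨n, hmn, hn, h⟩ := hinf (m + 1)
      exact ⟨n, ⟨hn, h⟩, by omega⟩
  have hmult : Φ.rootMultiplicity 0 = d := rootMultiplicity_of_key (Nat.cast_ne_zero.2 hdeg0.ne') hχZ hP0 key
  rw [hdim, hd, hmult]

end AVKLDimLib

end
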